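import Cfsg.Agent.Lib.Helper5.HNBack.Main
import Cfsg.Agent.Lib.Lead.HNP.HNTCData

/-! # generated: ten words of the presented Harada–Norton group that satisfy the relators of the
alternating group of degree 12 (checked on the three base rows) -/

set_option autoImplicit false
set_option maxRecDepth 1000000
set_option maxHeartbeats 40000000

namespace Cfsg.Agent.Lib.Helper5.HNA12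

open Cfsg.Agent.Lib.Helper6.TC Cfsg.Agent.Lib.Helper6.NatArr Cfsg.Agent.Lib.Helper5.HNBack Cfsg.Agent.Lib.Lead.HNP.HNTC

/-- the relators of the alternating group on the words of a list, checked on the base -/
noncomputable def relsOK (T : Tab) (ws : List (List ℕ)) (base : List ℕ) (m : ℕ) : Bool :=
  (List.range m).all fun i =>
    (if i = 0 then powOK T (ws.getD i []) 3 base else powOK T (ws.getD i []) 2 base) &&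
    (List.range m).all fun j =>
      if j = i + 1 then powOK T (ws.getD i [] ++ ws.getD j []) 3 base
      else if i + 1 < j then powOK T (ws.getD i [] ++ ws.getD j []) 2 base else true

theorem relsOK_spec {T : Tab} {ws : List (List ℕ)} {base : List ℕ} {m : ℕ}
    (h : relsOK T ws base m = true) {i : ℕ} (hi : i < m) :
    (i = 0 → powOK T (ws.getD i []) 3 base = true) ∧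
    (1 ≤ i → powOK T (ws.getD i []) 2 base = true) ∧
    ∀ j, j < m → (j = i + 1 → powOK T (ws.getD i [] ++ ws.getD j []) 3 base = true) ∧
      (i + 1 < j → powOK T (ws.getD i [] ++ ws.getD j []) 2 base = true) := by
  unfold relsOK at h
  have h1 := List.all_eq_true.1 h i (List.mem_range.2 hi)
  rw [Bool.and_eq_true] at h1
  obtain ⟨ha, hb⟩ := h1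
  refine ⟨fun h0 => ?_, fun h0 => ?_, fun j hj => ?_⟩
  · rwa [if_pos h0] at ha
  · rwa [if_neg (by omega)] at ha
  · have h2 := List.all_eq_true.1 hb j (List.mem_range.2 hj)
    refine ⟨fun hji => ?_, fun hji => ?_⟩
    · rwa [if_pos hji] at h2
    · rwa [if_neg (by omega), if_pos hji] at h2

/-- the ten words: `(1,2,3)` and `(1,2)(i+2,i+3)` -/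
def aws : List (List ℕ) := [[2, 4, 3, 4, 3, 3, 0, 3, 0, 2, 0, 2, 0, 2, 2, 5, 3, 3, 0, 3, 3, 1, 2, 5, 3, 3, 1, 3, 3, 3, 0, 3, 3, 0, 4, 2, 4, 2, 2, 0, 3, 1, 3, 3, 5, 3, 5, 3, 5, 3, 3, 1, 3, 3, 3, 2, 4, 3, 4, 3, 3, 0, 3, 0, 2, 0, 2, 0, 2, 2, 5, 3, 3, 0, 3, 3, 1, 2, 5, 3, 3, 1, 3, 3, 3, 0, 3, 3, 0, 4, 2, 4, 2, 2, 0, 3, 1, 3, 3, 5, 3, 5, 3, 5, 3, 3, 1, 3, 3, 3, 2, 4, 3, 4, 3, 3, 0, 3, 0, 2, 0, 2, 0, 2, 2, 5, 3, 3, 0, 3, 3, 1, 2, 5, 3, 3, 1, 3, 3, 3, 2, 2, 2, 0, 2, 2, 4, 2, 4, 2, 4, 2, 2, 0, 2, 1, 3, 3, 5, 3, 5, 1, 2, 2, 1, 2, 2, 2, 0, 2, 2, 4, 2, 4, 2, 4, 2, 2, 0, 2, 1, 3, 3, 5, 3, 5, 1, 2, 2, 1, 0, 4, 3, 0, 2, 4], [0, 3, 3, 0, 4, 2, 4, 2, 2, 0, 3, 1, 3, 3, 5, 3, 5, 3, 5, 3, 3, 1, 3, 3, 3, 0,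 3, 3, 0, 4, 2, 4, 2, 2, 0, 3, 1, 3, 3, 5, 3, 5, 3, 5, 3, 3, 1, 3, 3, 3, 2, 4, 3, 4, 3, 3, 0, 3, 0, 2, 0, 2, 0, 2, 2, 5, 3, 3, 0, 3, 3, 1, 2, 5, 3, 3, 1, 3, 3, 3, 2, 2, 2, 0, 2, 2, 4, 2, 4, 2, 4, 2, 2, 0, 2, 1, 3, 3, 5, 3, 5, 1, 2, 2, 1, 2, 2, 2, 0, 2, 2, 4, 2, 4, 2, 4, 2, 2, 0, 2, 1, 3, 3, 5, 3, 5, 1, 2, 2, 1, 2, 4, 3, 4, 3, 3, 0, 3, 0, 2, 0, 2, 0, 2, 2, 5, 3, 3, 0, 3, 3, 1, 2, 5, 3, 3, 1, 3, 3, 3, 0, 3, 0, 2, 2, 0, 3, 0, 3, 3, 0, 2, 1, 3], [0, 3, 0, 2, 2, 2, 0, 2, 0], [0, 3, 3, 0, 4, 2, 4, 2, 2, 0, 3, 1, 3, 3, 5, 3, 5, 3, 5, 3, 3, 1, 3, 3, 3, 2, 4, 3, 4, 3, 3, 0, 3, 0, 2, 0, 2, 0, 2, 2, 5, 3, 3, 0, 3, 3, 1, 2, 5, 3, 3, 1, 3, 3, 3, 0, 3, 3, 0, 4, 2, 4, 2, 2, 0, 3, 1, 3, 3, 5, 3, 5, 3, 5,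 3, 3, 1, 3, 3, 3, 2, 4, 3, 4, 3, 3, 0, 3, 0, 2, 0, 2, 0, 2, 2, 5, 3, 3, 0, 3, 3, 1, 2, 5, 3, 3, 1, 3, 3, 3, 2, 2, 2, 0, 2, 2, 4, 2, 4, 2, 4, 2, 2, 0, 2, 1, 3, 3, 5, 3, 5, 1, 2, 2, 1, 2, 2, 2, 0, 2, 2, 4, 2, 4, 2, 4, 2, 2, 0, 2, 1, 3, 3, 5, 3, 5, 1, 2, 2, 1, 0, 2, 0, 3, 0, 2, 2, 0, 2, 0, 3, 1, 3], [0, 3, 3, 0, 4, 2, 4, 2, 2, 0, 3, 1, 3, 3, 5, 3, 5, 3, 5, 3, 3, 1, 3, 3, 3, 0, 3, 3, 0, 4, 2, 4, 2, 2, 0, 3, 1, 3, 3, 5, 3, 5, 3, 5, 3, 3, 1, 3, 3, 3, 2, 4, 3, 4, 3, 3, 0, 3, 0, 2, 0, 2, 0, 2, 2, 5, 3, 3, 0, 3, 3, 1, 2, 5, 3, 3, 1, 3, 3, 3, 2, 2, 2, 0, 2, 2, 4, 2, 4, 2, 4, 2, 2, 0, 2, 1, 3, 3, 5, 3, 5, 1, 2, 2, 1, 2, 2, 2, 0, 2, 2, 4, 2, 4, 2, 4, 2, 2, 0, 2, 1, 3, 3, 5, 3, 5, 1, 2, 2, 1, 0, 4,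 3, 0, 2, 4], [2, 2, 2, 0, 2, 2, 4, 2, 4, 2, 4, 2, 2, 0, 2, 1, 3, 3, 5, 3, 5, 1, 2, 2, 1, 2, 4, 3, 4, 3, 3, 0, 3, 0, 2, 0, 2, 0, 2, 2, 5, 3, 3, 0, 3, 3, 1, 2, 5, 3, 3, 1, 3, 3, 3, 2, 2, 2, 0, 2, 2, 4, 2, 4, 2, 4, 2, 2, 0, 2, 1, 3, 3, 5, 3, 5, 1, 2, 2, 1, 2, 4, 3, 4, 3, 3, 0, 3, 0, 2, 0, 2, 0, 2, 2, 5, 3, 3, 0, 3, 3, 1, 2, 5, 3, 3, 1, 3, 3, 3, 2, 2, 2, 0, 2, 2, 4, 2, 4, 2, 4, 2, 2, 0, 2, 1, 3, 3, 5, 3, 5, 1, 2, 2, 1, 2, 2, 2, 0, 2, 2, 4, 2, 4, 2, 4, 2, 2, 0, 2, 1, 3, 3, 5, 3, 5, 1, 2, 2, 1, 0, 3, 0, 2, 2, 2, 0, 2, 1, 3, 3, 7, 4, 2, 2, 4, 3, 3, 7], [2, 4, 3, 4, 3, 3, 0, 3, 0, 2, 0, 2, 0, 2, 2, 5, 3, 3, 0, 3, 3, 1, 2, 5, 3, 3, 1, 3, 3, 3, 2, 2, 2, 0, 2, 2, 4, 2, 4, 2, 4, 2, 2, 0, 2, 1, 3, 3,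 5, 3, 5, 1, 2, 2, 1, 2, 2, 2, 0, 2, 2, 4, 2, 4, 2, 4, 2, 2, 0, 2, 1, 3, 3, 5, 3, 5, 1, 2, 2, 1, 2, 4, 3, 4, 3, 3, 0, 3, 0, 2, 0, 2, 0, 2, 2, 5, 3, 3, 0, 3, 3, 1, 2, 5, 3, 3, 1, 3, 3, 3, 2, 2, 2, 0, 2, 2, 4, 2, 4, 2, 4, 2, 2, 0, 2, 1, 3, 3, 5, 3, 5, 1, 2, 2, 1, 2, 2, 2, 0, 2, 2, 4, 2, 4, 2, 4, 2, 2, 0, 2, 1, 3, 3, 5, 3, 5, 1, 2, 2, 1, 2, 0, 2, 2, 0, 2, 0, 3, 0, 3, 3, 0, 3, 6, 4, 7, 7], [0, 3, 3, 0, 4, 2, 4, 2, 2, 0, 3, 1, 3, 3, 5, 3, 5, 3, 5, 3, 3, 1, 3, 3, 3, 0, 3, 3, 0, 4, 2, 4, 2, 2, 0, 3, 1, 3, 3, 5, 3, 5, 3, 5, 3, 3, 1, 3, 3, 3, 2, 4, 3, 4, 3, 3, 0, 3, 0, 2, 0, 2, 0, 2, 2, 5, 3, 3, 0, 3, 3, 1, 2, 5, 3, 3, 1, 3, 3, 3, 2, 2, 2, 0, 2, 2, 4, 2, 4, 2, 4, 2, 2, 0, 2, 1, 3, 3, 5, 3, 5, 1,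 2, 2, 1, 2, 2, 2, 0, 2, 2, 4, 2, 4, 2, 4, 2, 2, 0, 2, 1, 3, 3, 5, 3, 5, 1, 2, 2, 1, 2, 4, 3, 4, 3, 3, 0, 3, 0, 2, 0, 2, 0, 2, 2, 5, 3, 3, 0, 3, 3, 1, 2, 5, 3, 3, 1, 3, 3, 3, 0, 3, 0, 2, 2, 0, 3, 0, 3, 3, 0, 2, 0, 3, 6, 1, 4, 6], [0, 3, 3, 0, 4, 2, 4, 2, 2, 0, 3, 1, 3, 3, 5, 3, 5, 3, 5, 3, 3, 1, 3, 3, 3, 0, 3, 3, 0, 4, 2, 4, 2, 2, 0, 3, 1, 3, 3, 5, 3, 5, 3, 5, 3, 3, 1, 3, 3, 3, 2, 4, 3, 4, 3, 3, 0, 3, 0, 2, 0, 2, 0, 2, 2, 5, 3, 3, 0, 3, 3, 1, 2, 5, 3, 3, 1, 3, 3, 3, 2, 2, 2, 0, 2, 2, 4, 2, 4, 2, 4, 2, 2, 0, 2, 1, 3, 3, 5, 3, 5, 1, 2, 2, 1, 2, 2, 2, 0, 2, 2, 4, 2, 4, 2, 4, 2, 2, 0, 2, 1, 3, 3, 5, 3, 5, 1, 2, 2, 1, 2, 4, 3, 4, 3, 3, 0, 3, 0, 2, 0, 2, 0, 2, 2, 5, 3, 3, 0, 3, 3, 1, 2, 5, 3,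 3, 1, 3, 3, 3, 0, 3, 0, 2, 2, 0, 3, 0, 3, 3, 0, 2, 1, 3, 6, 0, 4, 7], [2, 4, 3, 4, 3, 3, 0, 3, 0, 2, 0, 2, 0, 2, 2, 5, 3, 3, 0, 3, 3, 1, 2, 5, 3, 3, 1, 3, 3, 3, 2, 2, 2, 0, 2, 2, 4, 2, 4, 2, 4, 2, 2, 0, 2, 1, 3, 3, 5, 3, 5, 1, 2, 2, 1, 2, 2, 2, 0, 2, 2, 4, 2, 4, 2, 4, 2, 2, 0, 2, 1, 3, 3, 5, 3, 5, 1, 2, 2, 1, 2, 4, 3, 4, 3, 3, 0, 3, 0, 2, 0, 2, 0, 2, 2, 5, 3, 3, 0, 3, 3, 1, 2, 5, 3, 3, 1, 3, 3, 3, 2, 2, 2, 0, 2, 2, 4, 2, 4, 2, 4, 2, 2, 0, 2, 1, 3, 3, 5, 3, 5, 1, 2, 2, 1, 2, 2, 2, 0, 2, 2, 4, 2, 4, 2, 4, 2, 2, 0, 2, 1, 3, 3, 5, 3, 5, 1, 2, 2, 1, 2, 0, 2, 2, 0, 2, 0, 3, 0, 3, 3, 0, 3, 4, 6, 4, 7, 7]]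

theorem chk_rels : relsOK tab aws [1134369, 4006, 0] 10 = true := by decide +kernel

theorem chk_ne : Nat.beq (tab.trace 4006 (aws.getD 0 [])) 4006 = false := by decide +kernel

end Cfsg.Agent.Lib.Helper5.HNA12
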