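import Mathlib
import Cfsg.Agent.S3335

/-! # Generic lemmas for S0463: the presentation of the alternating groups (S3335) as a named
set of relators, homomorphisms out of it, and the action of a simple group on the cosets of a
subgroup transported to `Fin n` -/

set_option autoImplicit false

namespace Cfsg.Agent.Lib.Helper5.HNA12

/-- the relators of the presentation of the alternating group of degree `n` (as in S3335) -/
def altRels (n : ℕ) : Set (FreeGroup (Fin (n - 2))) :=
  {g : FreeGroup (Fin (n - 2)) | ∃ i : Fin (n - 2), i.val = 0 ∧ g = FreeGroup.of i ^ 3} ∪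
    {g | ∃ i : Fin (n - 2), 1 ≤ i.val ∧ g = FreeGroup.of i ^ 2} ∪
    {g | ∃ i j : Fin (n - 2), j.val = i.val + 1 ∧ g = (FreeGroup.of i * FreeGroup.of j) ^ 3} ∪
    {g | ∃ i j : Fin (n - 2), i.val + 1 < j.val ∧ g = (FreeGroup.of i * FreeGroup.of j) ^ 2}

theorem altEquiv (n : ℕ) (hn : 3 ≤ n) :
    Nonempty (PresentedGroup (altRels n) ≃* alternatingGroup (Fin n)) :=
  Cfsg.Agent.S3335.result n hn

theorem altRels_lift_eq_one {G : Type*} [Group G] (n : ℕ) (f : Fin (n - 2) → G)
    (h0 : ∀ i : Fin (n - 2), i.val = 0 → f i ^ 3 = 1)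
    (h1 : ∀ i : Fin (n - 2), 1 ≤ i.val → f i ^ 2 = 1)
    (h2 : ∀ i j : Fin (n - 2), j.val = i.val + 1 → (f i * f j) ^ 3 = 1)
    (h3 : ∀ i j : Fin (n - 2), i.val + 1 < j.val → (f i * f j) ^ 2 = 1) :
    ∀ r ∈ altRels n, FreeGroup.lift f r = 1 := by
  rintro r (((⟨i, hi, rfl⟩ | ⟨i, hi, rfl⟩) | ⟨i, j, hij, rfl⟩) | ⟨i, j, hij, rfl⟩)
  · rw [map_pow, FreeGroup.lift_apply_of]; exact h0 i hi
  · rw [map_pow, FreeGroup.lift_apply_of]; exact h1 i hi
  · rw [map_pow, map_mul, FreeGroup.lift_apply_of, FreeGroup.lift_apply_of]; exact h2 i j hij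
  · rw [map_pow, map_mul, FreeGroup.lift_apply_of, FreeGroup.lift_apply_of]; exact h3 i j hij

/-- a family of elements of a group that satisfies the relators and is not trivial generates a
copy of the alternating group -/
theorem exists_alt_subgroup {G : Type*} [Group G] (n : ℕ) (hn : 5 ≤ n) (f : Fin (n - 2) → G)
    (h0 : ∀ i : Fin (n - 2), i.val = 0 → f i ^ 3 = 1)
    (h1 : ∀ i : Fin (n - 2), 1 ≤ i.val → f i ^ 2 = 1)
    (h2 : ∀ i j : Fin (n - 2), j.val = i.val + 1 → (f i * f j) ^ 3 = 1)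
    (h3 : ∀ i j : Fin (n - 2), i.val + 1 < j.val → (f i * f j) ^ 2 = 1)
    (hne : ∃ i, f i ≠ 1) :
    ∃ A : Subgroup G, Nonempty (A ≃* alternatingGroup (Fin n)) := by
  obtain ⟨e⟩ := altEquiv n (by omega)
  have hrel := altRels_lift_eq_one n f h0 h1 h2 h3
  let φ : PresentedGroup (altRels n) →* G := PresentedGroup.toGroup hrel
  haveI : IsSimpleGroup (alternatingGroup (Fin n)) :=
    alternatingGroup.isSimpleGroup (by simpa using hn)
  haveI hs : IsSimpleGroup (PresentedGroup (altRels n)) := e.isSimpleGroup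
  have hinj : Function.Injective φ := by
    rw [← MonoidHom.ker_eq_bot_iff]
    rcases (MonoidHom.normal_ker φ).eq_bot_or_eq_top with h | h
    · exact h
    · exfalso
      obtain ⟨i, hi⟩ := hne
      apply hi
      have h1 : PresentedGroup.of i ∈ φ.ker := by rw [h]; trivial
      rw [MonoidHom.mem_ker] at h1
      rwa [PresentedGroup.toGroup.of] at h1
  exact ⟨φ.range, ⟨(MonoidHom.ofInjective hinj).symm.trans e⟩⟩

/-- the action of a simple group on the cosets of a proper subgroup, transported to `Fin n` -/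
theorem perm_rep {G : Type*} [Group G] [Finite G] [IsSimpleGroup G] (A : Subgroup G) {n : ℕ}
    [NeZero n] (hidx : A.index = n) (hA : A ≠ ⊤) :
    ∃ H : Subgroup (Equiv.Perm (Fin n)), Nonempty (G ≃* H) ∧
      MulAction.IsPretransitive H (Fin n) ∧
      Nonempty (MulAction.stabilizer H (0 : Fin n) ≃* A) := by
  classical
  have hcard : Nat.card (G ⧸ A) = n := hidx
  let e0 : (G ⧸ A) ≃ Fin n := Finite.equivFinOfCardEq hcard
  let e : (G ⧸ A) ≃ Fin n := e0.trans (Equiv.swap (e0 ((1 : G) : G ⧸ A)) 0)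
  have he1 : e ((1 : G) : G ⧸ A) = 0 := by
    show Equiv.swap (e0 ((1 : G) : G ⧸ A)) 0 (e0 ((1 : G) : G ⧸ A)) = 0
    exact Equiv.swap_apply_left _ _
  let ρ : G →* Equiv.Perm (Fin n) :=
    (e.permCongrHom.toMonoidHom).comp (MulAction.toPermHom G (G ⧸ A))
  have hρ : ∀ (g : G) (i : Fin n), ρ g i = e (g • e.symm i) := fun g i => rfl
  have hfix : ∀ g : G, ρ g 0 = 0 ↔ g ∈ A := by
    intro g
    rw [hρ, ← he1, Equiv.symm_apply_apply, e.apply_eq_iff_eq]
    show ((g * 1 : G) : G ⧸ A) = ((1 : G) : G ⧸ A) ↔ g ∈ A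
    rw [mul_one, QuotientGroup.eq, mul_one, inv_mem_iff]
  have hinj : Function.Injective ρ := by
    rw [← MonoidHom.ker_eq_bot_iff]
    rcases (MonoidHom.normal_ker ρ).eq_bot_or_eq_top with h | h
    · exact h
    · exfalso
      apply hA
      rw [eq_top_iff]
      intro g _
      have hg : g ∈ ρ.ker := by rw [h]; trivial
      rw [MonoidHom.mem_ker] at hg
      rw [← hfix g, hg]
      rfl
  refine ⟨ρ.range, ⟨MonoidHom.ofInjective hinj⟩, ⟨fun i j => ?_⟩, ?_⟩
  · obtain ⟨g, hg⟩ := MulAction.exists_smul_eq G (e.symm i) (e.symm j)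
    refine ⟨⟨ρ g, g, rfl⟩, ?_⟩
    show ρ g i = j
    rw [hρ, hg, Equiv.apply_symm_apply]
  · let ψ : A →* MulAction.stabilizer ρ.range (0 : Fin n) :=
      { toFun := fun a => ⟨⟨ρ a.1, a.1, rfl⟩, by
          rw [MulAction.mem_stabilizer_iff]
          show ρ a.1 0 = 0
          exact (hfix a.1).2 a.2⟩
        map_one' := by
          apply Subtype.ext
          apply Subtype.ext
          show ρ (1 : G) = 1
          exact map_one ρ
        map_mul' := fun a b => by
          apply Subtype.ext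
          apply Subtype.ext
          show ρ (a.1 * b.1) = ρ a.1 * ρ b.1
          exact map_mul ρ _ _ }
    have hψ : Function.Bijective ψ := by
      constructor
      · intro a b hab
        have h1 : ρ a.1 = ρ b.1 := congrArg (fun x => x.1.1) hab
        exact Subtype.ext (hinj h1)
      · rintro ⟨⟨σ, g, rfl⟩, hσ⟩
        rw [MulAction.mem_stabilizer_iff] at hσ
        have hg : g ∈ A := (hfix g).1 hσ
        exact ⟨⟨g, hg⟩, rfl⟩
    exact ⟨(MulEquiv.ofBijective ψ hψ).symm⟩

end Cfsg.Agent.Lib.Helper5.HNA12
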