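import Cfsg.Prelude.Def_Sporadic
import Cfsg.Agent.Lib.Helper5.HNCert.Final
import Cfsg.Agent.Lib.Helper5.HNGlue.G0
import Cfsg.Agent.Lib.Helper5.HNA12.Gens
import Cfsg.Agent.Lib.Helper5.HNA12.Perm

/-! # S0463: the presented Harada–Norton group contains a copy of the alternating group of
degree 12 (ten words that satisfy the relators of S3335; a word that fixes the three base rows is
trivial), and acts on its 1140000 cosets -/

set_option autoImplicit false
set_option maxRecDepth 1000000
set_option maxHeartbeats 40000000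

namespace Cfsg.Agent.Lib.Helper5.HNA12

open Cfsg.Agent.Lib.Helper6.TC Cfsg.Agent.Lib.Helper6.TCG Cfsg.Agent.Lib.Helper6.NatArr
  Cfsg.Agent.Lib.Helper6.Simp Cfsg.Agent.Lib.Helper6.SimpG Cfsg.Agent.Lib.Helper5.HNBack Cfsg.Agent.Lib.Helper5.HNCert
  Cfsg.Agent.Lib.Lead.HNP.HNTC Cfsg.Spor

/-- the action on the rows is faithful and the stabilizer of the three base rows is trivial -/
theorem chain : Nat.card (CoxPresented HN.Gen ([] : List (HN.Gen × ℕ × HN.Gen)) HN.extra) =
      273030912000000 ∧ Function.Injective data.ρ ∧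
      ∀ σ ∈ pstab data.T data.ρ.range [1134369, 4006, 0], σ = 1 :=
  card_of_chain data hub chk_ivl chk_reach (k := 5) (b1 := 4006) (by decide +kernel)
    (by show 4006 < 1539000; norm_num) cnt5 (b2 := 1134369) (m2 := 240)
    (by show 1134369 < 1539000; norm_num) chk_fix2 chk_orb2
    (by show 1539000 * (739200 * 240) = 273030912000000; norm_num) (by norm_num)

/-- a word whose power fixes the three base rows has trivial power in the group -/
theorem wordG_pow_eq_one {w : List ℕ} {p : ℕ} (h : powOK tab w p [1134369, 4006, 0] = true) :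
    (Cfsg.Agent.Lib.Helper6.SimpG.wordG data w) ^ p = 1 :=
  wordG_pow_eq_one_of_base data chain.2.1 chain.2.2 h

theorem wordG_append (u v : List ℕ) : Cfsg.Agent.Lib.Helper6.SimpG.wordG data (u ++ v) =
    Cfsg.Agent.Lib.Helper6.SimpG.wordG data u * Cfsg.Agent.Lib.Helper6.SimpG.wordG data v := by
  unfold Cfsg.Agent.Lib.Helper6.SimpG.wordG
  rw [List.map_append, List.prod_append]

/-- the ten elements -/
noncomputable def gen12 (i : Fin (12 - 2)) :
    CoxPresented HN.Gen ([] : List (HN.Gen × ℕ × HN.Gen)) HN.extra :=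
  Cfsg.Agent.Lib.Helper6.SimpG.wordG data (aws.getD i.val [])

theorem gen12_zero_ne : gen12 ⟨0, by norm_num⟩ ≠ 1 := by
  intro h
  have h3 : powOK tab (aws.getD 0 []) 3 [1134369, 4006, 0] = true :=
    (relsOK_spec chk_rels (i := 0) (by norm_num)).1 rfl
  unfold powOK at h3
  rw [Bool.and_eq_true] at h3
  have hw : ∀ x ∈ aws.getD 0 [], x < data.c.g := by
    intro x hx
    have := List.all_eq_true.1 h3.1 x hx
    rw [Nat.blt_eq] at this
    rw [← data.hTg]
    exact this
  have ha : 4006 < data.T.n := by show 4006 < 1539000; norm_num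
  have h1 : data.ρ (Cfsg.Agent.Lib.Helper6.SimpG.wordG data (aws.getD 0 [])) ⟨4006, ha⟩ =
      ⟨4006, ha⟩ := by
    have h' : Cfsg.Agent.Lib.Helper6.SimpG.wordG data (aws.getD 0 []) = 1 := h
    rw [h', map_one]
    rfl
  have h2 := (Cfsg.Agent.Lib.Helper5.HNGlue.ρ_word_fix_iff data hw ha).1 h1
  have h4 := chk_ne
  have h5 : tab.trace 4006 (aws.getD 0 []) = 4006 := h2
  rw [h5] at h4
  exact absurd h4 (by decide)

theorem exists_A12 : ∃ A : Subgroup Cfsg.Spor.HN, Nonempty (A ≃* alternatingGroup (Fin 12)) := by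
  refine exists_alt_subgroup 12 (by norm_num) gen12 ?_ ?_ ?_ ?_ ⟨⟨0, by norm_num⟩, gen12_zero_ne⟩
  · intro i hi
    exact wordG_pow_eq_one
      ((relsOK_spec chk_rels (i := i.val) (by have := i.isLt; omega)).1 hi)
  · intro i hi
    exact wordG_pow_eq_one
      ((relsOK_spec chk_rels (i := i.val) (by have := i.isLt; omega)).2.1 hi)
  · intro i j hij
    have h1 := wordG_pow_eq_one
      (((relsOK_spec chk_rels (i := i.val) (by have := i.isLt; omega)).2.2 j.val
        (by have := j.isLt; omega)).1 hij)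
    rwa [wordG_append] at h1
  · intro i j hij
    have h1 := wordG_pow_eq_one
      (((relsOK_spec chk_rels (i := i.val) (by have := i.isLt; omega)).2.2 j.val
        (by have := j.isLt; omega)).2 hij)
    rwa [wordG_append] at h1

/-- **S0463** -/
theorem main463 : ∃ H : Subgroup (Equiv.Perm (Fin 1140000)), Cfsg.IsHN H ∧
    MulAction.IsPretransitive H (Fin 1140000) ∧
    Nonempty (MulAction.stabilizer H (0 : Fin 1140000) ≃* alternatingGroup (Fin 12)) := by
  obtain ⟨hsimple, hcard⟩ := Cfsg.Agent.Lib.Helper5.HNCert.main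
  obtain ⟨A, ⟨eA⟩⟩ := exists_A12
  have := hsimple
  have : Finite Cfsg.Spor.HN := Nat.finite_of_card_ne_zero (by rw [hcard]; norm_num)
  have hAcard : Nat.card A = 239500800 := by
    rw [Nat.card_congr eA.toEquiv, nat_card_alternatingGroup, Nat.card_fin]
    decide
  have hidx : A.index = 1140000 := by
    have h1 := A.card_mul_index
    rw [hAcard, hcard] at h1
    omega
  have hA : A ≠ ⊤ := by
    intro h
    rw [h, Subgroup.index_top] at hidx
    omega
  obtain ⟨H, ⟨eH⟩, htr, ⟨eS⟩⟩ := perm_rep A hidx hA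
  refine ⟨H, ⟨eH.symm.isSimpleGroup, ?_⟩, htr, ⟨eS.trans eA⟩⟩
  rw [← Nat.card_congr eH.toEquiv, hcard]

end Cfsg.Agent.Lib.Helper5.HNA12
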